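import Cfsg.Agent.MK.S5.Alt
import Cfsg.Agent.TAB.F22.Fam

/-!
# MK, a Sylow `2`-subgroup of `Fi22` (helper31)

* `eq_one_of_grow` : a base for the automorphisms of a graph; `le_card_of_chain` : a chain of stabilizers;
* `syl` : the commutator factor group has order `16` and the flip of the diagram acts trivially on it.
-/

set_option autoImplicit false
set_option maxHeartbeats 400000
set_option maxRecDepth 100000
set_option exponentiation.threshold 5000

namespace Cfsg.Agent.MK.S6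

open Subgroup Equiv Cfsg.Agent.MK.T Cfsg.Agent.MK.S.Pc Cfsg.Agent.H123.Cls Cfsg.Agent.H123.Cls.FiDat
open Cfsg.Agent.Lib.BitNet (Aut Inv sep_sound card_eq_orbit_mul)
open Cfsg.Agent.Lib.BitNetSimple (force force_eq tb)
open Cfsg.Agent.H494.F22 (rho rho_injective rho_gen N_le_Aut sw tau tau_conj ix_lt ix_flip)
open Cfsg.Agent.H494.F22.Row (row)
open Cfsg.Agent.H833.Flip (flipA flipA_gen)

/-- evaluate a list before passing it on -/
noncomputable def fl {β : Type} (l : List ℕ) : (List ℕ → β) → β :=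
  List.rec (fun k => k []) (fun a _ ih k => force a fun a' => ih fun l' => k (a' :: l')) l

theorem fl_eq {β : Type} (l : List ℕ) (k : List ℕ → β) : fl l k = k l := by
  induction l generalizing k with
  | nil => rfl
  | cons a l ih => exact (force_eq a fun a' => fl l fun l' => k (a' :: l')).trans (ih fun l' => k (a :: l'))

section gen

variable {n : ℕ} {r : ℕ → ℕ} {σ : Perm (Fin n)}

/-- the points which are joined to the points of `B` in the same way as `q` -/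
noncomputable def cell (r : ℕ → ℕ) (q : ℕ) (B : List ℕ) : ℕ → ℕ :=
  List.rec (fun U => U) (fun p _ ih U => force (r p) fun m =>
    force (cnd (tb m q) (Nat.land U m) (Nat.xor U (Nat.land U m))) ih) B

theorem inv_cell (q : ℕ) : ∀ (B : List ℕ), (∀ p ∈ B, Inv σ (r p)) → ∀ U, Inv σ U → Inv σ (cell r q B U)
  | [], _, _, hU => hU
  | p :: B, h, U, hU => by
    have e : cell r q (p :: B) U = force (r p) fun m =>
      force (cnd (tb m q) (Nat.land U m) (Nat.xor U (Nat.land U m))) (cell r q B) := rfl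
    rw [e, force_eq, force_eq]
    refine inv_cell q B (fun x hx => h x (List.mem_cons_of_mem _ hx)) _ ?_
    have h1 := inv_land hU (h p List.mem_cons_self)
    cases tb (r p) q
    exacts [inv_xor hU h1, h1]

/-- more and more points are fixed -/
noncomputable def grow (n : ℕ) (r : ℕ → ℕ) (qs : List ℕ) : List ℕ → Bool :=
  List.rec (fun B => fl (B.map r) fun l => force (Nat.sub (Nat.pow 2 n) 1) (sepF l))
    (fun q _ ih B => band (Nat.blt q n) (band (Nat.beq (cell r q B (Nat.sub (Nat.pow 2 n) 1)) (Nat.pow 2 q))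
      (ih (q :: B)))) qs

theorem eq_one_of_grow (hσ : σ ∈ Aut n r) : ∀ (qs B : List ℕ), grow n r qs B = true → (∀ p ∈ B, Inv σ (r p)) → σ = 1
  | [], B, h, hB => by
    change (fl (B.map r) fun l => force (Nat.sub (Nat.pow 2 n) 1) (sepF l)) = true at h
    rw [fl_eq, force_eq, sepF_eq] at h
    have h1 : ∀ i : Fin n, (Nat.sub (Nat.pow 2 n) 1).testBit i = true := fun i =>
      (Nat.testBit_two_pow_sub_one n i).trans (decide_eq_true i.2)
    refine Equiv.ext fun i => Fin.ext (sep_sound h (h1 _) (h1 _) fun x hx => ?_)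
    obtain ⟨p, hp, rfl⟩ := List.mem_map.1 hx
    exact hB p hp i
  | q :: qs, B, h, hB => by
    obtain ⟨h1, h2⟩ := band_true h
    obtain ⟨h2, h3⟩ := band_true h2
    have h4 := inv_cell q B hB _ inv_univ
    rw [Nat.eq_of_beq_eq_true h2] at h4
    exact eq_one_of_grow hσ qs (q :: B) h3 (List.forall_mem_cons.2
      ⟨Inv.row hσ (p := ⟨q, Nat.blt_eq.mp h1⟩) (Inv.fix (p := ⟨q, Nat.blt_eq.mp h1⟩) h4), hB⟩)

variable {f : List ℕ → ℕ → ℕ} {e : List ℕ → Perm (Fin n)}

/-- doubling a list of points -/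
noncomputable def orb (f : List ℕ → ℕ → ℕ) (hs : List (List ℕ)) : List ℕ → List ℕ :=
  List.rec (fun L => L) (fun h _ ih L => fl (L ++ L.map (f h)) ih) hs

theorem orb_spec (he : ∀ w (p : Fin n), (e w p : ℕ) = f w p) {K : Subgroup (Perm (Fin n))} {b : Fin n} :
    ∀ (hs : List (List ℕ)) (L : List ℕ), (∀ w ∈ hs, e w ∈ K) → (∀ x ∈ L, ∃ y ∈ MulAction.orbit K b, y.1 = x) →
      (orb f hs L).length = 2 ^ hs.length * L.length ∧ ∀ x ∈ orb f hs L, ∃ y ∈ MulAction.orbit K b, y.1 = x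
  | [], _, _, h => ⟨(one_mul _).symm, h⟩
  | w :: hs, L, h1, h2 => by
    rw [show orb f (w :: hs) L = orb f hs (L ++ L.map (f w)) from fl_eq _ _]
    obtain ⟨h3, h4⟩ := orb_spec he hs (L ++ L.map (f w)) (fun v hv => h1 v (List.mem_cons_of_mem _ hv)) fun x hx => by
      rcases List.mem_append.1 hx with hx | hx
      · exact h2 x hx
      · obtain ⟨u, hu, rfl⟩ := List.mem_map.1 hx
        obtain ⟨y, hy, rfl⟩ := h2 u hu
        exact ⟨_, MulAction.mapsTo_smul_orbit (⟨e w, h1 w List.mem_cons_self⟩ : K) b hy, he w y⟩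
    refine ⟨?_, h4⟩
    rw [h3, List.length_append, List.length_map, List.length_cons]
    ring

/-- the check of a chain of stabilizers -/
noncomputable def chain (n : ℕ) (f : List ℕ → ℕ → ℕ) (L : List (ℕ × List (List ℕ))) : Bool :=
  List.rec true (fun a L ih => Nat.blt a.1 n && decide (orb f a.2 [a.1]).Nodup &&
    (L.all fun b => b.2.all fun w => Nat.beq (f w a.1) a.1) && ih) L

theorem le_card_of_chain (he : ∀ w (p : Fin n), (e w p : ℕ) = f w p) : ∀ (L : List (ℕ × List (List ℕ)))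
    (K : Subgroup (Perm (Fin n))), chain n f L = true → (∀ a ∈ L, ∀ w ∈ a.2, e w ∈ K) →
      2 ^ (L.map fun a => a.2.length).sum ≤ Nat.card K
  | [], _, _, _ => Nat.card_pos
  | a :: L, K, h, hK => by
    change (Nat.blt a.1 n && decide (orb f a.2 [a.1]).Nodup &&
      (L.all fun b => b.2.all fun w => Nat.beq (f w a.1) a.1) && chain n f L) = true at h
    simp only [Bool.and_eq_true, Nat.blt_eq, decide_eq_true_eq, List.all_eq_true, Nat.beq_eq] at h
    obtain ⟨⟨⟨h1, h2⟩, h3⟩, h4⟩ := h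
    rw [List.map_cons, List.sum_cons, pow_add, card_eq_orbit_mul K ⟨a.1, h1⟩]
    refine Nat.mul_le_mul ?_ (le_card_of_chain he L _ h4 fun b hb w hw =>
      ⟨hK b (List.mem_cons_of_mem _ hb) w hw, Fin.ext ((he w ⟨a.1, h1⟩).trans (h3 b hb w hw))⟩)
    obtain ⟨h5, h6⟩ := orb_spec he (b := ⟨a.1, h1⟩) a.2 [a.1] (hK a List.mem_cons_self) fun x hx =>
      ⟨_, MulAction.mem_orbit_self _, (List.mem_singleton.1 hx).symm⟩
    rw [List.length_singleton, mul_one] at h5
    rw [← h5, ← List.toFinset_card_of_nodup h2, ← Set.ncard_coe_finset, Nat.card_coe_set_eq,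
      ← Set.ncard_image_of_injective _ Fin.val_injective]
    exact Set.ncard_le_ncard (fun x hx => h6 x (List.mem_toFinset.1 hx)) (Set.toFinite _)

end gen

/-- the base -/
def bs : List ℕ := [2883, 2164, 3337, 2965, 2511, 1811]

/-- the points which are fixed with the base -/
def qs : List ℕ :=
  [2462, 686, 1323, 872, 1885, 908, 649, 209, 117, 1504, 888, 2313, 267, 1234, 614, 3120, 1460, 173, 3350, 2775, 2674,
  3324, 1511, 1297, 3191, 625, 1895, 3095, 203, 1019, 1537]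

theorem grow_chk : grow 3510 row qs bs = true := by decide +kernel

/-- the test of the equality of two words -/
noncomputable def eqv (v w : List ℕ) : Bool :=
  fl v fun v => fl w fun w => chkL 9 v && chkL 9 w && bs.all fun p => Nat.beq (evw 12 gens v p) (evw 12 gens w p)

theorem eqv_ok (v w : List ℕ) (h : eqv v w = true) : el v = el w := by
  simp only [eqv, fl_eq, Bool.and_eq_true, List.all_eq_true, Nat.beq_eq] at h
  obtain ⟨⟨h1, h2⟩, h3⟩ := h
  have h4 : rho ((el w)⁻¹ * el v) ∈ Aut 3510 row := N_le_Aut ⟨_, rfl⟩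
  have h5 := eq_one_of_grow h4 qs bs grow_chk fun p hp => by
    have h6 : p < 3510 := (by decide : ∀ p ∈ bs, p < 3510) p hp
    refine Inv.row h4 (p := ⟨p, h6⟩) ?_
    rw [map_mul, map_inv, Perm.mul_apply, Perm.inv_eq_iff_eq]
    exact Fin.ext ((ev_tab v (chkL_iff _ _ h1) _).trans ((h3 p hp).trans (ev_tab w (chkL_iff _ _ h2) ⟨p, h6⟩).symm))
  exact (inv_mul_eq_one.1 (rho_injective (h5.trans (map_one rho).symm))).symm

/-- the certificate -/
def ce : Cert where
  gw :=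
    [[5, 6, 8, 4, 5, 7, 3, 4, 8, 3, 7, 2, 8, 3, 4, 6, 7, 8, 2, 5, 7, 6, 4, 3, 4, 5, 3], [5, 2, 1, 2, 1, 0, 1, 6, 4,
    5], [3, 2, 4, 3], [7], [1, 5, 3, 0, 2, 4, 6, 3, 5, 1, 6, 4, 2, 0, 1, 5, 3, 0, 2, 4, 6, 3, 5, 1, 6, 4, 2, 0], [5,
    1, 8, 4, 6, 7, 3, 2, 4, 8, 1, 5, 2, 3, 7, 6, 2, 4, 7, 5, 4, 6, 7, 0, 1, 3, 2, 6, 7, 3, 0, 7, 6, 4, 5, 3, 7, 6, 2,
    3, 1, 8, 2, 8, 4, 0, 1, 7, 3, 5, 0, 4, 8, 2, 5, 3, 7], [2, 1, 2, 4, 6, 0, 5, 6, 4, 1, 5, 0, 7, 3, 8, 7, 8, 3, 4,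
    7, 2, 1, 3, 8, 2, 7, 4, 8, 3, 1, 2, 3, 1, 4, 6, 0, 5, 6, 4, 1, 5, 0], [3, 1, 5, 3, 0, 2, 4, 6, 3, 5, 1, 6, 4, 2,
    0, 7, 3, 7, 4, 6, 0, 2, 1, 3, 5, 2, 0, 6, 4, 7, 5, 3, 1, 3], [7, 5, 1, 0, 8, 2, 4, 6, 1, 5, 7, 3, 4, 3, 2, 3, 7,
    5, 1, 6, 4, 2, 8, 0, 1, 5, 7, 3, 2, 3, 4, 7, 1, 5, 3, 2, 4, 8, 5, 1, 7, 8, 4, 2, 6, 7, 2, 3, 5, 4, 7, 3, 2, 7, 6,
    3, 7, 4, 3, 0, 2, 4, 6, 3, 5, 1, 6, 4, 2, 0, 7, 1, 5, 3, 2, 4, 8, 5, 1, 7, 8, 4, 2], [2, 1, 2, 1, 3, 4, 0, 3, 1,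
    7, 3, 0, 4, 2, 3, 4, 7, 1, 3, 2, 0, 1], [5, 4, 3, 6, 7, 2, 3, 5, 4, 7, 3, 2, 7, 6, 3, 7, 4, 5, 6, 4, 5], [8, 3, 7,
    4, 3, 2, 4, 3, 4, 7, 3, 4, 2, 8], [3, 7, 4, 3, 2, 4, 3, 4, 7, 3, 4, 2], [6], [4], [2], [0]]
  sq :=
    [[10, 13, 14, 15], [], [], [], [], [], [], [], [], [], [], [], [], [], [], [], []]
  cm :=
    [[[], [5, 6, 7, 11, 12, 15], [11], [10, 13, 14, 15], [5, 7, 9, 10, 12, 15, 16], [7, 8, 14, 15, 16], [7], [13, 15,
    16], [8, 9, 10, 12, 15], [8, 9, 10, 12, 13, 14], [], [12, 14, 15], [13, 14, 15], [], [], [], []], [[], [], [4, 13,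
    14, 15, 16], [], [], [15, 16], [6, 11, 14, 15], [7, 12, 14, 15], [7, 12, 14, 16], [9, 10, 14, 15, 16], [9, 10, 13,
    15, 16], [6, 11, 13, 16], [7, 12, 13, 16], [13, 14], [13, 14], [15, 16], [15, 16]], [[], [], [], [12, 14, 15], [],
    [5, 6, 7, 8, 9, 10, 11, 14, 15, 16], [5, 6, 7, 8, 11, 13, 14, 15, 16], [9, 10, 13], [13, 14, 15, 16], [12, 14,
    15], [12, 14, 15], [], [], [], [14, 15], [14, 15], []], [[], [], [], [], [7, 9, 10, 12, 13, 14, 15], [7, 9, 10,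
    12, 13, 14, 15], [7], [], [], [], [], [12, 14, 15], [], [], [], [], []], [[], [], [], [], [], [14, 15], [5, 6, 7,
    8, 11, 13, 14, 15, 16], [9, 10, 13], [9, 10, 16], [7, 9, 10, 12, 13, 14, 15], [7, 9, 10, 12, 14, 15, 16], [5, 6,
    7, 8, 11, 13, 14, 15, 16], [9, 10, 13], [13, 16], [14, 15], [14, 15], [13, 16]], [[], [], [], [], [], [], [8, 9,
    10, 12, 14, 16], [8, 9, 10, 12, 14, 16], [8, 9, 10, 12, 14, 16], [8, 9, 10, 12, 14, 15], [8, 9, 10, 12, 13, 16],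
    [8, 9, 10, 12, 13, 15], [8, 9, 10, 12, 13, 15], [], [], [], []], [[], [], [], [], [], [], [], [], [8, 9, 10, 12,
    14, 16], [13, 14, 16], [13, 15, 16], [], [8, 9, 10, 12, 15, 16], [], [], [], []], [[], [], [], [], [], [], [], [],
    [], [], [], [8, 9, 10, 12, 15, 16], [], [], [], [], []], [[], [], [], [], [], [], [], [], [], [], [], [13, 16],
    [], [], [], [], []], [[], [], [], [], [], [], [], [], [], [], [], [14, 15, 16], [], [], [], [], []], [[], [], [],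
    [], [], [], [], [], [], [], [], [13, 14, 15], [], [], [], [], []], [[], [], [], [], [], [], [], [], [], [], [],
    [], [], [], [], [], []], [[], [], [], [], [], [], [], [], [], [], [], [], [], [], [], [], []], [[], [], [], [],
    [], [], [], [], [], [], [], [], [], [], [], [], []], [[], [], [], [], [], [], [], [], [], [], [], [], [], [], [],
    [], []], [[], [], [], [], [], [], [], [], [], [], [], [], [], [], [], [], []], [[], [], [], [], [], [], [], [],
    [], [], [], [], [], [], [], [], []]]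
  dv :=
    [([], [], []), ([], [], []), ([], [], []), ([], [], []), ([1], [2], [13, 14, 15, 16]), ([1], [0, 11], [13, 14,
    16]), ([1], [11], [11, 13, 16]), ([3], [1, 2], []), ([7], [2, 11], [12, 15]), ([3], [1, 0], [14, 15]), ([0], [3],
    [13, 14, 15]), ([0], [2], []), ([2], [3], [14, 15]), ([1], [13], [14]), ([2], [14], [15]), ([1], [15], [16]), ([6,
    5, 2, 0], [12, 14], [])]

/-- the action of the flip -/
def ta : List (List ℕ) :=
  [[5, 6, 7, 8, 11], [], [], [], [], [14, 15], [], [], [14, 15], [9, 10, 13], [9, 10, 16], [], [], [13, 16], [14, 15],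
  [14, 15], [13, 16]]

/-- the chain of stabilizers -/
def lvs : List (ℕ × List (List ℕ)) :=
  [(3369, [[2]]), (0, [[1], [4]]), (90, [[11], [0], [6], [5]]), (1, [[15], [16], [12], [10], [8]]), (3, [[3], [14],
  [7, 10, 16]]), (24, [[13]]), (15, [[3, 9, 12, 14, 15, 16]])]

theorem pc_chk : ∀ i < 17, chk1 eqv 17 4 ce i = true := by decide +kernel

theorem ta_chk : ∀ i < 17, (inR 4 17 (ta.getD i []) && chkL 9 (ce.gw.getD i []) &&
    eqv ((ce.gw.getD i []).map sw) (ce.ex (i :: ta.getD i []))) = true := by decide +kernel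

theorem chain_chk : chain 3510 (fun w p => evw 12 gens (ce.ex w) p) lvs = true := by decide +kernel

/-- the generators -/
noncomputable def gg : ℕ → Spor.Fi22 := ce.el fun x => PresentedGroup.of (gn x)

theorem el_ex (w : List ℕ) : el (ce.ex w) = ev gg w := ce.ev_ex _ w

theorem pc : PC gg 17 4 := pc_of_chk eqv_ok (by norm_num) pc_chk

theorem card_ge : 2 ^ 17 ≤ Nat.card (V gg 17 0) := by
  rw [← card_map_of_injective rho_injective]
  refine le_card_of_chain (e := fun w => rho (el (ce.ex w))) (fun w p => ev_tab _ (fun x hx => ?_) p) lvs _ chain_chk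
    fun a ha w hw => mem_map_of_mem rho ?_
  · obtain ⟨i, -, hi⟩ := List.mem_flatMap.1 hx
    by_cases h : i < ce.gw.length
    · rw [List.getD_eq_getElem _ _ h] at hi
      exact (by decide : ∀ l ∈ ce.gw, ∀ x ∈ l, x < 9) _ (List.getElem_mem h) x hi
    · rw [List.getD_eq_default _ _ (not_lt.1 h)] at hi
      cases hi
  · rw [el_ex]
    exact inR_mem ((by decide : ∀ a ∈ lvs, ∀ w ∈ a.2, inR 0 17 w = true) a ha w hw)

theorem rho_flip (g : Spor.Fi22) : rho (flipA g) = tau * rho g * tau⁻¹ :=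
  DFunLike.congr_fun (f := rho.comp flipA.toMonoidHom) (g := (MulAut.conj tau).toMonoidHom.comp rho)
    (PresentedGroup.ext fun x => by
      change rho (flipA (Fischer.Fi22PtsRep.gen x)) = tau * rho (Fischer.Fi22PtsRep.gen x) * tau⁻¹
      rw [flipA_gen, rho_gen, rho_gen, tau_conj (ix_lt x), ix_flip]) g

theorem flip_gg {i : ℕ} (hi : i < 17) : (gg i)⁻¹ * flipA (gg i) ∈ V gg 17 4 := by
  have h := ta_chk i hi
  rw [Bool.and_eq_true, Bool.and_eq_true] at h
  have h1 : flipA (gg i) = el ((ce.gw.getD i []).map sw) :=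
    rho_injective ((rho_flip _).trans (TAB.F22.rho_sw _ (chkL_iff _ _ h.1.2)).symm)
  rw [h1, eqv_ok _ _ h.2, el_ex, ev_cons, inv_mul_cancel_left]
  exact inR_mem h.1.1

/-- **the Sylow subgroup** -/
theorem syl : ∃ Q : Sylow 2 Spor.Fi22, ab (Q : Subgroup Spor.Fi22) = 16 ∧
    ∀ x ∈ (Q : Subgroup Spor.Fi22), x⁻¹ * flipA x ∈ ⁅(Q : Subgroup Spor.Fi22), (Q : Subgroup Spor.Fi22)⁆ := by
  have := TAB.F22.fin22
  have := two_prime
  have h1 : Nat.card (V gg 17 0) = 2 ^ (Nat.card Spor.Fi22).factorization 2 := by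
    rw [pc.card_eq card_ge (Nat.zero_le _), Fischer.Fi22Order.card_fi22,
      show 64561751654400 = 2 ^ 17 * 492567075 by norm_num, S5.fact_two (by decide)]
  refine ⟨Sylow.ofCard _ h1, pc.index card_ge, fun x hx => ?_⟩
  change x ∈ V gg 17 0 at hx
  change _ ∈ ⁅V gg 17 0, V gg 17 0⁆
  rw [pc.comm_eq]
  induction hx using closure_induction with
  | mem x hx =>
    obtain ⟨i, hi, rfl⟩ := hx
    exact flip_gg hi.2
  | one => rw [map_one, mul_one, inv_one]; exact one_mem _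
  | mul a b _ hb h2 h3 =>
    rw [show (a * b)⁻¹ * flipA (a * b) = b⁻¹ * (a⁻¹ * flipA a) * b⁻¹⁻¹ * (b⁻¹ * flipA b) by rw [map_mul]; group]
    exact mul_mem ((mem_normalizer_iff.1 (pc.norm (inv_mem hb)) _).1 h2) h3
  | inv a ha h2 =>
    rw [show a⁻¹⁻¹ * flipA a⁻¹ = a * (a⁻¹ * flipA a)⁻¹ * a⁻¹ by rw [map_inv]; group]
    exact (mem_normalizer_iff.1 (pc.norm ha) _).1 (inv_mem h2)

end Cfsg.Agent.MK.S6
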