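import Cfsg.Agent.MK.S6.F23
import Cfsg.Agent.MK.S6.Syl
import Cfsg.Agent.MK.T.D
import Cfsg.Agent.H922.QS.FiThree
import Cfsg.Agent.H133.FibPce
import Cfsg.Agent.H95.StemCover
import Cfsg.Agent.S2053
import Cfsg.Agent.S2079

/-!
# MK, the small row of `Fi22`, and the reduction of the row of `3.Fi22` to the number of faithful characters (helper31)
-/

set_option autoImplicit false
set_option maxHeartbeats 400000
set_option maxRecDepth 100000
set_option exponentiation.threshold 5000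

namespace Cfsg.Agent.MK.S6

open Subgroup Cfsg.Agent.MK.T Cfsg.Agent.MK.S Cfsg.Agent.TAB.F22 Cfsg.Agent.H922.QS.FiThree
open Cfsg.Agent.H833.Flip (flipA flipA_gen flipA_ne_conj)

theorem m0_22 : M0 Spor.Fi22 := by
  have := fin22
  obtain ⟨Q, h, -⟩ := syl
  exact (m0_iff H768.SelfFi.selfN_fi22).2 (by rw [k0_fi22, ← ab_sylow Q, h])

theorem flip_out : flipA ∉ (MulAut.conj : Spor.Fi22 →* MulAut Spor.Fi22).range := fun ⟨g, hg⟩ =>
  flipA_ne_conj g hg.symm

theorem ty_flip (x : Spor.Fi22) : ty (flipA x) = ty x :=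
  congrArg (fun a => (a + 1) % 59) (fam_conj H494.F22.tau_mem_A (rho_flip x))

theorem f0_flip : f0 flipA = 16 := by
  rw [← k0_fi22]
  refine f0_eq_of_all fun ψ hψ x => ?_
  obtain ⟨χ, hE, hR⟩ := tab
  obtain ⟨j, hj, rfl⟩ := hE.all ψ hψ.1
  have h1 := hψ.2
  rw [hE.charDegree_eq hj, Nat.odd_iff] at h1
  obtain ⟨r, hr, h2⟩ := (by decide +kernel : ∀ j < (TAB.Sm2.mkRows rowA rowB).n,
    (TAB.Sm2.mkRows rowA rowB).d j % 2 = 1 → ∃ r ∈ (TAB.Sm2.mkRows rowA rowB).rel, r.1 = [(j, 1)]) j hj h1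
  rw [hR.row hr h2, hR.row hr h2, td_ty, td_ty, ty_flip]

/-- **the row of `Fi22`** -/
theorem fi22 : SmS Spor.Fi22 := fun _ => by
  have := fin22
  obtain ⟨Q, h1, h2⟩ := syl
  have h3 := stab_of_le (α := flipA) (Q := Q) fun x hx => by
    rw [← mul_inv_cancel_left x (flipA x)]
    exact mul_mem hx (commutator_le_self _ (h2 x hx))
  refine sm_of_two' facts22.1 S2079.result Q flip_out h3 m0_22 ?_
  rw [le_antisymm (H768.SelfFi.selfN_fi22 Q) le_normalizer, fN_eq_f0 (res_coe _ _ h3), f0_two_index Q.isPGroup',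
    f0_flip, sup_eq_left.2, ← h1]
  · rfl
  · rw [closure_le, commutator_eq_subgroupOf]
    rintro _ ⟨x, rfl⟩
    exact h2 x x.2

/-- the spider word -/
def spw : List Spor.Fi22.Gen := (List.replicate 10 [.d, .c, .b, .d, .e, .f, .d, .h, .i]).flatten

theorem om3_eq : om3 = wd3 spw := by
  rw [spw, wd3, List.map_flatten, List.prod_flatten, List.map_replicate, List.map_replicate, List.prod_replicate]
  rfl

theorem eq_of_inv {G : Type} [Group G] {z a b : G} (hz : ∀ g, z * g = g * z) (h3 : z ^ 3 = 1) (ha : a * a = 1)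
    (hb : b * b = 1) (h : a / b ∈ zpowers z) : a = b := by
  obtain ⟨k, hk⟩ := mem_zpowers_iff.1 h
  rw [div_eq_mul_inv] at hk
  have h4 : Commute (z ^ k) b := Commute.zpow_left (hz b) k
  rw [← eq_mul_inv_iff_mul_eq.1 hk, ← pow_two, h4.mul_pow, pow_two b, hb, mul_one] at ha
  have h6 : (z ^ k) ^ 3 = 1 := by rw [← zpow_natCast, ← zpow_mul, mul_comm, zpow_mul, zpow_natCast, h3, one_zpow]
  rw [pow_succ, ha, one_mul] at h6
  exact mul_inv_eq_one.1 (hk.symm.trans h6)

theorem flip_om3 (α : MulAut K3) (h : ∀ x, pi3 (α x) = flipA (pi3 x)) : α om3 ≠ om3 := by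
  have h1 : ∀ p, x3 p * x3 p = 1 := fun p => by
    have h1 := lift3 (KFacts.MulEven.Fi22.idx p) (KFacts.MulEven.Fi22.idx p)
    rwa [CoxeterMatrix.diagonal, pow_one] at h1
  have h2 : ∀ p, α (x3 p) = x3 (R01.AlphaIso.flip p) := fun p =>
    eq_of_inv (G := K3) (z := om3) om3_comm om3_cube (by rw [← map_mul, h1, map_one]) (h1 _) (ker3 ▸ (pi3.div_mem_ker_iff.2
      ((h _).trans ((congrArg flipA (pi3_x p)).trans ((flipA_gen p).trans (pi3_x _).symm)))))
  have h3 : ∀ w, α (wd3 w) = wd3 (w.map R01.AlphaIso.flip) := fun w => by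
    induction w with
    | nil => exact map_one α
    | cons y w ih => rw [List.map_cons, wd3_cons, wd3_cons, map_mul, ih, h2]
  rw [om3_eq, h3]
  exact wd3_ne (p := 1) (by norm_num) (by decide +kernel)

/-- the triple cover is the model -/
theorem exists_model {X : Type} [Group X] [Finite X] (φ : X →* Spor.Fi22) (h1 : Function.Surjective φ)
    (h2 : φ.ker = center X) (h3 : Nat.card (center X) = 3) (h4 : _root_.commutator X = ⊤) :
    ∃ e : X ≃* K3, ∀ x, pi3 (e x) = φ x := by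
  have := fin22
  refine (H133.FibPce.dichotomy (π := φ) ⟨h1, h2.le, h4⟩ pce3 (card_ker3 ▸ Nat.prime_three)
    (by rw [h2, h3, card_ker3])).resolve_left fun h7 => ?_
  have h8 := H95.StemCover.card_ker_dvd_cyclic S2053.result h7 _ (H133.FibPce.pj_surj h1 pce3.surj)
    (H133.FibPce.pj_ker h2.le pce3.cen)
  rw [Nat.card_congr (H133.FibPce.kerFib φ pi3).toEquiv, Nat.card_prod, h2, h3, card_ker3] at h8
  exact absurd h8 (by decide)

/-- **the row of `3.Fi22`** from the number of the faithful characters of odd degree -/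
theorem fi223_of (h : ∀ (X : Type) [Group X] [Finite X] (φ : X →* Spor.Fi22), Function.Surjective φ →
    φ.ker = center X → Nat.card (center X) = 3 → _root_.commutator X = ⊤ → ∀ (l : X → ℂ) (m : center X →* ℂˣ),
      Fa (center X) l → (∀ z : center X, l z = m z) → kk ⊤ (center X) l = 16) : SmC Spor.Fi22 := by
  intro X _ _ φ h1 h2 h3 h4 _
  refine sm_of_kk φ h1 h2 (by rw [h3]; decide) ?_ (CycN.of_selfN H768.SelfFi.selfN_fi22) m0_22 fun l m hl hm =>
    (h X φ h1 h2 h3 h4 l m hl hm).trans k0_fi22.symm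
  have := fin22
  obtain ⟨e, he⟩ := exists_model φ h1 h2 h3 h4
  refine inn_of_no φ h1 h2 h4 (out_cases S2079.result flip_out) fun α h5 h6 => ?_
  refine flip_om3 ((e.symm.trans α).trans e) (fun x => ?_) ?_
  · rw [MulEquiv.trans_apply, MulEquiv.trans_apply, he, h5, ← he, e.apply_symm_apply]
  · rw [MulEquiv.trans_apply, MulEquiv.trans_apply, h6, e.apply_symm_apply]
    rw [← h2, MonoidHom.mem_ker, ← he, e.apply_symm_apply, ← MonoidHom.mem_ker, ker3]
    exact mem_zpowers _

end Cfsg.Agent.MK.S6
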