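import Cfsg.Agent.MK.S6.F22
import Cfsg.Agent.MK.S7.X22

/-! # MK, the small row of `3.Fi22` (helper31; the count on the side of the group is by helper16) -/

set_option autoImplicit false
set_option maxHeartbeats 400000

namespace Cfsg.Agent.MK.S6

open Cfsg Cfsg.Agent.MK.S

/-- **the row of `3.Fi22`** -/
theorem fi223 : SmC Spor.Fi22 :=
  fi223_of fun X _ _ φ h1 h2 h3 h4 l m hl hm => S7.kk_cov22 X φ h1 h2 h3 h4 hl
    ((hm 1).trans (by rw [map_one, Units.val_one])) fun a ha b hb =>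
      (hm (⟨a, ha⟩ * ⟨b, hb⟩)).trans (by rw [map_mul, Units.val_mul, ← hm, ← hm])

end Cfsg.Agent.MK.S6
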