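import Cfsg.Agent.MK.T.C
import Cfsg.Agent.MK.S.Defs
import Cfsg.Agent.TAB.F22.Main
import Cfsg.Agent.TAB.F23C.Main
import Cfsg.Agent.H768.SelfFi
import Cfsg.Agent.KFacts.MulFi24.Double
import Cfsg.Agent.S1697
import Cfsg.Agent.S2080

/-!
# MK, the small row of `Fi23` (helper31)
-/

set_option autoImplicit false
set_option maxHeartbeats 400000
set_option maxRecDepth 100000

namespace Cfsg.Agent.MK.S6

open Subgroup Cfsg.Agent.MK.T Cfsg.Agent.MK.S

theorem k0_fi22 : k0 Spor.Fi22 = 16 := by
  rw [k0_of_degList TAB.F22.deg]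
  decide

/-- a simple group of even order with more than two elements -/
theorem simple_facts {G : Type} [Group G] [Finite G] [IsSimpleGroup G] (h : ¬ (Nat.card G).Prime) :
    center G = ⊥ ∧ _root_.commutator G = ⊤ := by
  have h1 : center G = ⊥ := by
    refine (inferInstance : (center G).Normal).eq_bot_or_eq_top.resolve_right fun h1 => h ?_
    let _ := Group.commGroupOfCenterEqTop h1
    exact IsSimpleGroup.prime_card
  refine ⟨h1, (inferInstance : (_root_.commutator G).Normal).eq_bot_or_eq_top.resolve_left fun h2 => ?_⟩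
  rw [commutator_eq_bot_iff_center_eq_top, h1] at h2
  exact bot_ne_top h2

theorem facts22 : center Spor.Fi22 = ⊥ ∧ _root_.commutator Spor.Fi22 = ⊤ :=
  haveI := TAB.F22.fin22
  haveI := Fischer.Fi22Order.isSimple
  simple_facts (by rw [Fischer.Fi22Order.card_fi22]; norm_num)

/-- **the row of `Fi23`** -/
theorem fi23 : SmS Spor.Fi23 := fun ih => by
  obtain ⟨hs, hc⟩ := S1697.result
  have : Finite Spor.Fi23 := Nat.finite_of_card_ne_zero (by rw [hc]; norm_num)
  have := TAB.F22.fin22
  refine sm_of_one (simple_facts (by rw [hc]; norm_num)).1 S2080.result ((m0_iff H768.SelfFi.selfN_fi23).2 ?_)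
  have h1 := KFacts.MulFi24.Double.perfect_of_double S1688.result facts22.2
  obtain ⟨-, ⟨e⟩, -⟩ := S1688.result
  have h2 := a2_sub _ (S1689.result.1 ▸ (by decide : Odd 31671))
  have h3 := a2_central (QuotientGroup.mk' _) (QuotientGroup.mk'_surjective _) (QuotientGroup.ker_mk' _).le
    (h1 ▸ le_top)
  rw [← h2, h3, a2_congr e, ← ih.k0_eq (by rw [hc, Fischer.Fi22Order.card_fi22]; norm_num) H768.SelfFi.selfN_fi22,
    k0_fi22, k0_of_degList TAB.F23C.deg]
  decide +kernel

end Cfsg.Agent.MK.S6
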